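import Cfsg.Agent.E7P.Br.Lev

/-!
# S5932, task BR: the projection `End V → g` and the Springer map (helper8)

* `trace_del` : the trace form is `12 kf`; `pi` : the projection (`12 ≠ 0`);
* `leadU`, `exists_leadU` : leading terms of the elements of `Ul β`;
* `exists_eps`, `eps_inj`, `eps_fix`, `eps : EPS K`; `j1_gen`.
-/

set_option autoImplicit false
set_option maxRecDepth 100000

namespace Cfsg.Agent.E7P.Br

open Cfsg Cfsg.Lie Matrix Module
open Cfsg.Agent.H943.E7V.Block (D1 rho)
open Cfsg.Agent.R2.T1 Cfsg.Agent.E7P.Kf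
open Cfsg.Agent.R2.PX (del)
open Cfsg.Agent.ChevalleyStructure.Columns (car)

universe u

variable {K : Type u} [Field K]

/-! ### the trace form -/

theorem chk_HH : ∀ i < 7, ∀ j < 7, (R2.PX.W56.map fun s => chevE8.cartan i s * chevE8.cartan j s).sum =
    12 * car chevE7 i (chevE7.simple j) := by decide +kernel

theorem chk_H : ∀ i < 7, (R2.PX.W56.map fun s => chevE8.cartan i s).sum = 0 := by decide +kernel

theorem trace_basis (a b : chevE7.Idx) :
    trace (del K (Pi.single a 1) * del K (Pi.single b 1)) = 12 * KM K a b := by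
  rcases a with i | r <;> rcases b with j | s
  · rw [R2.PX.del_inl, R2.PX.del_inl, KM_ll]
    show trace (diagonal _ * diagonal _) = _
    rw [diagonal_mul_diagonal, trace_diagonal]
    have h1 := congrArg (fun x : ℤ => (x : K)) ((R2.PX.sumD1 fun s => chevE8.cartan i s * chevE8.cartan j s).trans
      (chk_HH i i.2 j j.2))
    simp only [Int.cast_sum, Int.cast_mul, Int.cast_ofNat] at h1
    exact h1
  · rw [R2.PX.del_inl, R2.PX.del_inr, KM_lr, mul_zero, trace_mul_comm]
    exact R2.PX.trace_NM_diag s.2 _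
  · rw [R2.PX.del_inl, R2.PX.del_inr, KM_rl, mul_zero]
    exact R2.PX.trace_NM_diag r.2 _
  · rw [R2.PX.del_inr, R2.PX.del_inr, KM_rr]
    split_ifs with h
    · rw [h, mul_one]
      exact R2.PX.trace_NM_neg r.2
    · rw [mul_zero]
      exact R2.PX.trace_NM s.2 r.2 h

theorem del_sum (y : chevE7.Idx → K) : del K y = ∑ a, y a • del K (Pi.single a 1) := by
  conv_lhs => rw [pi_eq_sum_univ' y]
  rw [map_sum]
  exact Finset.sum_congr rfl fun a _ => map_smul _ _ _

theorem trace_mul_del (X : Matrix D1 D1 K) (y : chevE7.Idx → K) :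
    trace (X * del K y) = ∑ a, y a * trace (X * del K (Pi.single a 1)) := by
  rw [del_sum y, Finset.mul_sum, trace_sum]
  exact Finset.sum_congr rfl fun a _ => by rw [mul_smul_comm, trace_smul, smul_eq_mul]

/-- **the trace form** -/
theorem trace_del (x y : chevE7.Idx → K) : trace (del K x * del K y) = 12 * kf K x y := by
  rw [trace_mul_comm, trace_mul_del, kf_apply, dotProduct, Finset.mul_sum]
  refine Finset.sum_congr rfl fun a _ => ?_
  rw [trace_mul_comm, trace_mul_del, mul_left_comm, mulVec, dotProduct, Finset.mul_sum _ _ (12 : K)]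
  congr 1
  exact Finset.sum_congr rfl fun b _ => by rw [trace_basis]; ring

theorem trace_del_zero (y : chevE7.Idx → K) : trace (del K y) = 0 := by
  rw [← one_mul (del K y), trace_mul_del]
  refine Finset.sum_eq_zero fun a _ => ?_
  rw [one_mul]
  rcases a with i | r
  · rw [R2.PX.del_inl]
    show _ * trace (diagonal _) = _
    rw [trace_diagonal]
    have h1 := congrArg (fun x : ℤ => (x : K)) ((R2.PX.sumD1 fun s => chevE8.cartan i s).trans (chk_H i i.2))
    simp only [Int.cast_sum, Int.cast_zero] at h1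
    rw [h1, mul_zero]
  · have h1 := R2.PX.trace_NM_diag (F := K) r.2 fun _ => 1
    rw [diagonal_one, mul_one] at h1
    rw [R2.PX.del_inr, h1, mul_zero]

theorem two_ne (h12 : (12 : K) ≠ 0) : (2 : K) ≠ 0 := fun h => h12 (by linear_combination 6 * h)

theorem twelve_ne {p : ℕ} [CharP K p] (hp : p.Prime) (h5 : 5 ≤ p) : (12 : K) ≠ 0 := by
  intro h
  have h1 : p ∣ 2 ^ 2 * 3 := (CharP.cast_eq_zero_iff K p 12).1 (by exact_mod_cast h)
  rcases (Nat.Prime.dvd_mul hp).1 h1 with h2 | h2
  · have := Nat.le_of_dvd two_pos (hp.dvd_of_dvd_pow h2)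
    omega
  · have := Nat.le_of_dvd (by norm_num) h2
    omega

theorem kf_adM (g : Gh K) (x y : chevE7.Idx → K) : kf K (adM K g *ᵥ x) (adM K g *ᵥ y) = kf K x y := by
  rw [← L_mulVec, ← L_mulVec, kf_L]

/-- the form is invariant -/
theorem kf_br (h12 : (12 : K) ≠ 0) (x y z : chevE7.Idx → K) : kf K (br K x y) z = kf K x (br K y z) := by
  apply mul_left_cancel₀ h12
  rw [← trace_del, ← trace_del, del_br, del_br, sub_mul, mul_sub, trace_sub, trace_sub, mul_assoc,
    trace_mul_cycle (del K y), mul_assoc (del K z), trace_mul_comm (del K z), mul_assoc, trace_mul_comm (del K y),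
    trace_mul_comm (del K x) (del K z * del K y), mul_assoc, trace_mul_comm (del K x) (del K z * del K y), mul_assoc]

/-! ### the projection -/

variable (K) in
/-- **the projection** `End V → g` -/
noncomputable def pi : Matrix D1 D1 K →ₗ[K] (chevE7.Idx → K) where
  toFun X := (12 : K)⁻¹ • ((KM K)⁻¹ *ᵥ fun a => trace (X * del K (Pi.single a 1)))
  map_add' X Y := by
    rw [← smul_add, ← mulVec_add]
    congr 2
    funext a
    rw [add_mul, trace_add]
    rfl
  map_smul' c X := by
    rw [RingHom.id_apply, smul_comm c, ← mulVec_smul _ c]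
    congr 2
    funext a
    rw [smul_mul_assoc, trace_smul]
    rfl

section
variable (h12 : (12 : K) ≠ 0)
include h12

theorem pi_spec (X : Matrix D1 D1 K) (y : chevE7.Idx → K) : 12 * kf K y (pi K X) = trace (X * del K y) := by
  have h1 : IsUnit (KM K).det := by
    rw [← isUnit_iff_isUnit_det, ← mulVec_injective_iff_isUnit]
    intro v w h
    refine sub_eq_zero.1 (kf_nondeg (two_ne h12) fun x => ?_)
    rw [kf_apply, mulVec_sub, h, sub_self, dotProduct_zero]
  rw [kf_apply]
  show 12 * y ⬝ᵥ KM K *ᵥ ((12 : K)⁻¹ • ((KM K)⁻¹ *ᵥ fun a => trace (X * del K (Pi.single a 1)))) = _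
  rw [mulVec_smul, mulVec_mulVec, mul_nonsing_inv _ h1, one_mulVec, dotProduct_smul, smul_eq_mul,
    mul_inv_cancel_left₀ h12, trace_mul_del]
  rfl

theorem pi_ext {X : Matrix D1 D1 K} {z : chevE7.Idx → K} (h : ∀ y, trace (X * del K y) = 12 * kf K y z) : pi K X = z :=
  sub_eq_zero.1 (kf_nondeg (two_ne h12) fun y => by
    apply mul_left_cancel₀ h12
    rw [map_sub, mul_sub, pi_spec h12, h, sub_self, mul_zero])

theorem pi_del (z : chevE7.Idx → K) : pi K (del K z) = z := pi_ext h12 fun y => by rw [trace_del, kf_comm]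

theorem pi_one : pi K 1 = 0 := pi_ext h12 fun y => by rw [one_mul, trace_del_zero, map_zero, mul_zero]

theorem pi_sub_one (X : Matrix D1 D1 K) : pi K (X - 1) = pi K X := by rw [map_sub, pi_one h12, sub_zero]

theorem pi_conj (g : Gh K) (X : Matrix D1 D1 K) : pi K (rho K g * X * rho K g⁻¹) = adM K g *ᵥ pi K X :=
  pi_ext h12 fun y => by
    rw [← kf_adM g⁻¹, mulVec_inv, pi_spec h12, del_adM (two_ne h12), inv_inv, mul_assoc (rho K g), mul_assoc (rho K g),
      trace_mul_comm (rho K g), mul_assoc, mul_assoc, mul_assoc]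

theorem pi_comm (y : chevE7.Idx → K) (X : Matrix D1 D1 K) : pi K (del K y * X - X * del K y) = br K y (pi K X) :=
  pi_ext h12 fun x => by
    rw [← kf_br h12, pi_spec h12, del_br, sub_mul, mul_sub, trace_sub, trace_sub, mul_assoc, trace_mul_comm (del K y),
      mul_assoc, mul_assoc]

theorem pi_wt {X : Matrix D1 D1 K} {a : chevE7.Idx} (h : pi K X a ≠ 0) :
    ∃ i j, X i j ≠ 0 ∧ wv i = wv j + cv (ac a) := by
  have key : ∀ b : chevE7.Idx, (KM K *ᵥ pi K X) b ≠ 0 → ∃ i j, X i j ≠ 0 ∧ wv j = wv i + cv (ac b) := by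
    intro b hb
    have h1 := pi_spec h12 X (Pi.single b 1)
    rw [kf_apply, single_one_dotProduct] at h1
    have h2 : ∑ i, (X * del K (Pi.single b 1)) i i ≠ 0 := fun e => mul_ne_zero h12 hb (h1.trans e)
    obtain ⟨i, -, hi⟩ := Finset.exists_ne_zero_of_sum_ne_zero h2
    obtain ⟨j, h3, h4⟩ := exists_mid' hi
    obtain ⟨c, hc, e⟩ := del_wt h4
    have h5 : c = b := by
      by_contra h5
      exact hc (Pi.single_eq_of_ne h5 _)
    exact ⟨i, j, h3, h5 ▸ e⟩
  rcases a with i | r
  · by_contra hc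
    refine h (congrFun (cartan_inj (two_ne h12) (y := fun j => pi K X (Sum.inl j)) fun m => ?_) i)
    rw [← KM_mulVec_inl]
    by_contra h1
    obtain ⟨i', j', h2, e⟩ := key _ h1
    rw [ac_inl, cv_zero, add_zero] at e
    exact hc ⟨i', j', h2, by rw [ac_inl, cv_zero, add_zero, e]⟩
  · have hr : r.val < 126 := r.2
    have h1 : ng (ng r) = r := Fin.ext (by rw [ng_val, ng_val]; omega)
    obtain ⟨i, j, h2, e⟩ := key (Sum.inr (ng r)) (by rwa [KM_mulVec_inr, h1])
    refine ⟨i, j, h2, ?_⟩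
    have h3 : cv (ac (Sum.inr (ng r))) = - cv (ac (Sum.inr r)) := rv_neg hr
    rw [e, h3, neg_add_cancel_right]

variable {β : E} {d : ℝ} {X : Matrix D1 D1 K}

theorem pi_Ge (h : X ∈ MGe K wc β d) : pi K X ∈ Ge K ac β d := fun a ha => by
  obtain ⟨i, j, h1, e⟩ := pi_wt h12 ha
  have h2 : bf β (wv j) + d ≤ bf β (wv i) := h i j h1
  rw [e, map_add] at h2
  linarith

theorem pi_Gt (h : X ∈ MGt K wc β d) : pi K X ∈ Gt K ac β d := fun a ha => by
  obtain ⟨i, j, h1, e⟩ := pi_wt h12 ha
  have h2 : bf β (wv j) + d < bf β (wv i) := h i j h1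
  rw [e, map_add] at h2
  linarith

end

theorem del_map {K' : Type u} [Field K'] (f : K →+* K') (z : chevE7.Idx → K) :
    (del K z).map f = del K' fun i => f (z i) := by
  ext a b
  rw [map_apply, R2.PX.del_apply, R2.PX.del_apply, Matrix.add_apply, Matrix.add_apply, Matrix.sum_apply, Matrix.sum_apply,
    Matrix.sum_apply, Matrix.sum_apply, map_add, map_sum, map_sum]
  congr 1
  · refine Finset.sum_congr rfl fun i _ => ?_
    rw [Matrix.smul_apply, Matrix.smul_apply, smul_eq_mul, smul_eq_mul, map_mul]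
    congr 1
    show f (diagonal _ a b) = diagonal _ a b
    rw [diagonal_apply, diagonal_apply, apply_ite f, map_intCast, map_zero]
  · refine Finset.sum_congr rfl fun s _ => ?_
    rw [Matrix.smul_apply, Matrix.smul_apply, smul_eq_mul, smul_eq_mul, map_mul]
    congr 1
    exact map_intCast f _

/-- the projection commutes with the change of the field -/
theorem pi_map {K' : Type u} [Field K'] (h12 : (12 : K) ≠ 0) (f : K →+* K') (X : Matrix D1 D1 K) :
    pi K' (X.map f) = fun i => f (pi K X i) := by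
  have h12' : (12 : K') ≠ 0 := fun h => h12 (f.injective (by rw [map_ofNat, map_zero, h]))
  have h1 : ∀ a : chevE7.Idx, (Pi.single a 1 : chevE7.Idx → K') = fun i => f ((Pi.single a 1 : chevE7.Idx → K) i) :=
    fun a => funext fun i => by rw [Pi.single_apply, Pi.single_apply, apply_ite f, map_one, map_zero]
  refine pi_ext h12' fun y => ?_
  rw [trace_mul_del]
  conv_rhs => rw [pi_eq_sum_univ' y]
  rw [map_sum, LinearMap.sum_apply, Finset.mul_sum]
  refine Finset.sum_congr rfl fun a _ => ?_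
  rw [map_smul, LinearMap.smul_apply, smul_eq_mul, mul_left_comm]
  congr 1
  have h2 := congrArg f (pi_spec h12 X (Pi.single a 1))
  rw [map_mul, map_ofNat, ← Five.kf_map] at h2
  rw [h1, h2, ← del_map, ← Matrix.map_mul]
  exact (AddMonoidHom.map_trace (f : K →+ K') _).symm

/-! ### leading terms of unipotent elements -/

/-- a strictly triangular matrix which commutes with the root vectors is zero -/
theorem eq_zero_of_comm {β : E} {X : Matrix D1 D1 K} (hX : X ∈ MGt K wc β 0) (h : ∀ r < 126, X * NM K r = NM K r * X) :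
    X = 0 := by
  have h1 : ∀ g : Gh K, X * rho K g = rho K g * X := fun g => mem_of_gens (S :=
    { carrier := {g | X * rho K g = rho K g * X}
      one_mem' := by
        show X * rho K 1 = rho K 1 * X
        rw [map_one, mul_one, one_mul]
      mul_mem' := fun {a b} (ha : X * rho K a = rho K a * X) (hb : X * rho K b = rho K b * X) => by
        show X * rho K (a * b) = rho K (a * b) * X
        rw [map_mul, ← mul_assoc, ha, mul_assoc, hb, mul_assoc]
      inv_mem' := fun {a} (ha : X * rho K a = rho K a * X) => by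
        show X * rho K a⁻¹ = rho K a⁻¹ * X
        have h2 : rho K a * rho K a⁻¹ = 1 := by rw [← map_mul, mul_inv_cancel, map_one]
        have h3 : rho K a⁻¹ * rho K a = 1 := by rw [← map_mul, inv_mul_cancel, map_one]
        calc X * rho K a⁻¹ = rho K a⁻¹ * (rho K a * X) * rho K a⁻¹ := by rw [← mul_assoc, h3, one_mul]
          _ = _ := by rw [← ha, mul_assoc, mul_assoc, h2, mul_one] }) (fun r hr t => by
      show X * rho K (xs K r t) = rho K (xs K r t) * X
      rw [rho_xs' hr, mul_add, add_mul, mul_one, one_mul, mul_smul_comm, smul_mul_assoc, h r hr]) g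
  have h2 := irrV (F := K) (LinearMap.ker (toLin' X)) (fun g w hw => by
    rw [LinearMap.mem_ker, toLin'_apply] at hw ⊢
    show X *ᵥ (rho K g *ᵥ w) = 0
    rw [mulVec_mulVec, h1, ← mulVec_mulVec, hw, mulVec_zero]) (fun hb => by
    have : Nonempty D1 := ⟨topv⟩
    obtain ⟨j, hj⟩ := Finite.exists_max fun j : D1 => bf β (wv j)
    have h3 : (Pi.single j 1 : D1 → K) ∈ LinearMap.ker (toLin' X) := by
      rw [LinearMap.mem_ker, toLin'_apply, mulVec_single_one]
      funext i
      by_contra h4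
      have h5 : bf β (wv j) + 0 < bf β (wv i) := hX i j h4
      have := hj i
      linarith
    rw [hb, Submodule.mem_bot] at h3
    have h4 := congrFun h3 j
    rw [Pi.single_eq_same] at h4
    exact one_ne_zero h4)
  exact toLin'.injective ((LinearMap.ker_eq_top.1 h2).trans (map_zero _).symm)

/-- **LEADU** for `p ≥ 5` -/
theorem leadU (h12 : (12 : K) ≠ 0) {β : E} {d : ℝ} (hd : 0 < d) {y : Gh K} (hy : y ∈ Pl K β)
    (h : rho K y - 1 ∈ MGe K wc β d) : rho K y - 1 - del K (pi K (rho K y)) ∈ MGt K wc β d := by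
  obtain ⟨N, hN⟩ : ∃ N, N = rho K y - 1 := ⟨_, rfl⟩
  obtain ⟨X, hX⟩ : ∃ X, X = N - del K (pi K (rho K y)) := ⟨_, rfl⟩
  rw [← hN] at h ⊢
  rw [← hX]
  have hz : pi K (rho K y) ∈ Ge K ac β d := by
    rw [← pi_sub_one h12, ← hN]
    exact pi_Ge h12 h
  have hXd : X ∈ MGe K wc β d := hX ▸ sub_mem h (del_MGe.2 hz)
  have hπ : pi K X = 0 := by rw [hX, map_sub, pi_del h12, hN, pi_sub_one h12, sub_self]
  have h1 : ∀ e, ∀ x ∈ Ge K ac β e, X * del K x - del K x * X ∈ MGt K wc β (d + e) := by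
    intro e x hx
    obtain ⟨w, hw⟩ : ∃ w, w = adM K y *ᵥ x - x := ⟨_, rfl⟩
    have e1 : del K w * rho K y = N * del K x - del K x * N := by
      rw [hw, map_sub, sub_mul, ← R2.PX.del_equi (two_ne h12), hN]
      noncomm_ring
    have h2 : N * del K x - del K x * N ∈ MGe K wc β (d + e) :=
      sub_mem (MGe_mul h (del_MGe.2 hx)) (add_comm e d ▸ MGe_mul (del_MGe.2 hx) h)
    have h3 : del K w ∈ MGe K wc β (d + e) := by
      have h4 := MGe_mul h2 (Pl_MGe wrep_V (inv_mem hy))
      rwa [← e1, mul_assoc, ← map_mul, mul_inv_cancel, map_one, mul_one, add_zero] at h4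
    have h4 : del K w * N ∈ MGt K wc β (d + e) := MGe_le_MGt (by linarith) (MGe_mul h3 h)
    have e2 : X * del K x - del K x * X = del K (w - br K (pi K (rho K y)) x) + del K w * N := by
      have e3 : del K w * N = N * del K x - del K x * N - del K w := by rw [← e1, hN, mul_sub, mul_one]
      rw [e3, map_sub, del_br, hX]
      noncomm_ring
    have h5 : w - br K (pi K (rho K y)) x ∈ Gt K ac β (d + e) := by
      have h6 := congrArg (pi K) e2
      rw [← neg_sub, map_neg, pi_comm h12, hπ, map_zero, neg_zero, map_add, pi_del h12] at h6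
      rw [eq_neg_of_add_eq_zero_left h6.symm]
      exact neg_mem (pi_Gt h12 h4)
    rw [e2]
    exact add_mem (del_MGt.2 h5) h4
  obtain ⟨Y, hY⟩ : ∃ Y : Matrix D1 D1 K, Kf.vec Y = lv ec β d (Kf.vec X) :=
    ⟨Matrix.of fun i j => lv ec β d (Kf.vec X) (i, j), rfl⟩
  have h2 : X - Y ∈ MGt K wc β d := by
    refine vec_Gt.1 ?_
    have h3 := sub_lv_mem (vec_Ge.2 hXd)
    rwa [← hY] at h3
  have h3 : Y ∈ MGe K wc β d := vec_Ge.1 (hY ▸ Lv_le_Ge (lv_mem _))
  have h4 : Y ∈ MGe K wc (-β) (-d) := vec_Ge.1 (hY ▸ Lv_le_Ge (mem_Lv_neg.2 (lv_mem _)))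
  have h5 : Y = 0 := eq_zero_of_comm (MGe_le_MGt hd h3) fun r hr => by
    have h6 : (Pi.single (Sum.inr ⟨r, hr⟩) 1 : chevE7.Idx → K) ∈ Lv K ac β (bf β (rv r)) := fun a ha => by
      have h7 : a = Sum.inr ⟨r, hr⟩ := by
        by_contra h7
        exact ha (Pi.single_eq_of_ne h7 _)
      rw [h7]
      rfl
    have h7 := h1 _ _ (Lv_le_Ge h6)
    have h8 := del_MGe.2 (Lv_le_Ge h6)
    have h9 := del_MGe.2 (Lv_le_Ge (mem_Lv_neg.2 h6))
    rw [R2.PX.del_inr] at h7 h8 h9
    have h10 := sub_mem h7 (sub_mem (MGt_mul h2 h8) (add_comm (bf β (rv r)) d ▸ mul_MGt h8 h2))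
    have h11 := sub_mem (MGe_mul h4 h9) (add_comm (-bf β (rv r)) (-d) ▸ MGe_mul h9 h4)
    have e : X * NM K r - NM K r * X - ((X - Y) * NM K r - NM K r * (X - Y)) = Y * NM K r - NM K r * Y := by noncomm_ring
    rw [← sub_eq_zero]
    ext i j
    by_contra h12'
    have h13 := (e ▸ h10 : Y * NM K r - NM K r * Y ∈ MGt K wc β (d + bf β (rv r))) i j h12'
    have h14 := h11 i j h12'
    rw [map_neg, LinearMap.neg_apply, LinearMap.neg_apply] at h14
    linarith
  rwa [h5, sub_zero] at h2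

/-- every leading term occurs (all characteristics) -/
theorem exists_leadU {β : E} {d : ℝ} (hd : 0 < d) {z : chevE7.Idx → K} (hz : z ∈ Ge K ac β d) :
    ∃ y ∈ Ul K β, rho K y - 1 - del K z ∈ MGt K wc β d := by
  have h1 : z ∈ Ge K ac β d ∧ ∃ y ∈ Ul K β, rho K y - 1 - del K z ∈ MGt K wc β d := by
    rw [pi_eq_sum_univ' z]
    refine Finset.sum_induction _ (fun z => z ∈ Ge K ac β d ∧ ∃ y ∈ Ul K β, rho K y - 1 - del K z ∈ MGt K wc β d) ?_ ?_ ?_
    · rintro a b ⟨ha, x, hx, hx'⟩ ⟨hb, y, hy, hy'⟩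
      refine ⟨add_mem ha hb, x * y, mul_mem hx hy, ?_⟩
      have h2 := add_mem (MGt_le_MGe hx') (del_MGe.2 ha)
      have h3 := add_mem (MGt_le_MGe hy') (del_MGe.2 hb)
      rw [sub_add_cancel] at h2 h3
      have e : rho K (x * y) - 1 - del K (a + b) =
          (rho K x - 1) * (rho K y - 1) + (rho K x - 1 - del K a) + (rho K y - 1 - del K b) := by
        rw [map_mul, map_add]
        noncomm_ring
      rw [e]
      exact add_mem (add_mem (MGe_le_MGt (by linarith) (MGe_mul h2 h3)) hx') hy'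
    · exact ⟨zero_mem _, 1, one_mem _, by rw [map_one, map_zero, sub_self, sub_zero]; exact zero_mem _⟩
    · intro a _
      by_cases h0 : z a = 0
      · rw [h0, zero_smul]
        exact ⟨zero_mem _, 1, one_mem _, by rw [map_one, map_zero, sub_self, sub_zero]; exact zero_mem _⟩
      have h2 := hz a h0
      refine ⟨Submodule.smul_mem _ _ fun b hb => ?_, ?_⟩
      · have h3 : b = a := by
          by_contra h3
          exact hb (Pi.single_eq_of_ne h3 _)
        rwa [h3]
      rcases a with i | r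
      · rw [ac_inl, cv_zero, map_zero] at h2
        exact absurd hd (not_lt.2 h2)
      · refine ⟨xs K r (z (Sum.inr r)), xs_mem_Ul r.2 (hd.trans_le h2) _, ?_⟩
        rw [rho_xs' r.2, map_smul, R2.PX.del_inr, add_sub_cancel_left, sub_self]
        exact zero_mem _
  exact h1.2

/-! ### the Springer map -/

section
variable (h12 : (12 : K) ≠ 0) {β : E}
include h12

theorem pi_Ul {y : Gh K} (hy : y ∈ Ul K β) : pi K (rho K y) ∈ Gt K ac β 0 := by
  rw [← pi_sub_one h12]
  exact pi_Gt h12 (Ul_MGt hy)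

theorem exists_eps {z : chevE7.Idx → K} (hz : z ∈ Gt K ac β 0) : ∃ y ∈ Ul K β, pi K (rho K y) = z := by
  obtain ⟨y, hy⟩ := lev_desc ac β (fun y : ↥(Ul K β) => z - pi K (rho K y)) 1 fun y d h1 h2 => by
    have hd : 0 < d := by
      by_contra hd
      exact h2 (lv_of_Gt (Gt_mono (not_lt.1 hd) (sub_mem hz (pi_Ul h12 y.2))))
    obtain ⟨x, hx, h3⟩ := exists_leadU hd h1
    refine ⟨⟨y * x, mul_mem y.2 hx⟩, ?_⟩
    have h4 := mul_MGt (Pl_MGe wrep_V y.2.1) h3
    have h5 := MGt_mul (Ul_MGt y.2) (del_MGe.2 h1)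
    rw [zero_add] at h4 h5
    have e : rho K (y * x) = rho K y + del K (z - pi K (rho K y)) +
        (rho K y * (rho K x - 1 - del K (z - pi K (rho K y))) + (rho K y - 1) * del K (z - pi K (rho K y))) := by
      rw [map_mul]
      noncomm_ring
    show z - pi K (rho K (y * x)) ∈ _
    rw [e, map_add, map_add, pi_del h12, add_sub_cancel, sub_add_cancel_left]
    exact neg_mem (pi_Gt h12 (add_mem h4 h5))
  exact ⟨y, y.2, (sub_eq_zero.1 hy).symm⟩

theorem eps_inj {y y' : Gh K} (hy : y ∈ Ul K β) (hy' : y' ∈ Ul K β) (h : pi K (rho K y) = pi K (rho K y')) : y = y' := by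
  have hu : y⁻¹ * y' ∈ Ul K β := mul_mem (inv_mem hy) hy'
  have h1 : rho K (y⁻¹ * y') - 1 = 0 := M_eq_zero_of_step (c := wc) (β := β) fun d hd => by
    by_cases h0 : 0 < d
    · have h2 := leadU h12 h0 hu.1 hd
      have h3 := MGt_mul (Ul_MGt hy) hd
      rw [zero_add] at h3
      have e : rho K y' - rho K y = (rho K (y⁻¹ * y') - 1) + (rho K y - 1) * (rho K (y⁻¹ * y') - 1) := by
        have e1 : rho K y' = rho K y * rho K (y⁻¹ * y') := by rw [← map_mul, mul_inv_cancel_left]
        rw [e1]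
        noncomm_ring
      have h4 := congrArg (pi K) e
      rw [map_sub, h, sub_self, map_add, pi_sub_one h12] at h4
      have h5 : pi K (rho K (y⁻¹ * y')) ∈ Gt K ac β d := by
        rw [eq_neg_of_add_eq_zero_left h4.symm]
        exact neg_mem (pi_Gt h12 h3)
      have h6 := add_mem h2 (del_MGt.2 h5)
      rwa [sub_add_cancel] at h6
    · exact MGt_mono (not_lt.1 h0) (Ul_MGt hu)
  exact inv_mul_eq_one.1 (rho_injective ((sub_eq_zero.1 h1).trans (map_one _).symm))

theorem eps_fix {y : Gh K} (hy : y ∈ Ul K β) {x : chevE7.Idx → K} (h : Cm (pi K (rho K y)) x) : adM K y *ᵥ x = x := by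
  have h1 : pi K (del K (x - adM K y *ᵥ x) * rho K y) = 0 := by
    rw [map_sub, sub_mul, ← R2.PX.del_equi (two_ne h12), pi_comm h12, br_anti, br_eq_zero.2 h, neg_zero]
  refine (sub_eq_zero.1 (eq_zero_of_step (c := ac) (β := β) fun d hd => ?_)).symm
  have h2 := mul_MGt (del_MGe.2 hd) (Ul_MGt hy)
  rw [add_zero] at h2
  have h3 := pi_Gt h12 h2
  rw [mul_sub, mul_one, map_sub, h1, pi_del h12, zero_sub] at h3
  exact neg_mem_iff.1 h3

/-- **EPS** -/
theorem eps : EPS K := by
  intro β z hz h0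
  obtain ⟨y, hy, e⟩ := exists_eps h12 hz
  refine ⟨y, hy, fun h1 => h0 (by rw [← e, h1, map_one, pi_one h12]), fun x hx => eps_fix h12 hy (e ▸ hx), fun g hg h1 => ?_⟩
  refine mul_inv_eq_iff_eq_mul.1 (eps_inj h12 (Ul_conj hg hy) hy ?_)
  rw [map_mul (rho K), map_mul (rho K), pi_conj h12, e, h1]

end

/-- the centraliser of an optimal set has no negative levels -/
theorem j1_gen [Infinite K] (hE : EPS K) {X : Set (chevE7.Idx → K)} {β : E} (ho : Opt bf (St ac (adM K) X) 1 β)
    (hβ : Dom β) {y : chevE7.Idx → K} (hy : y ∈ Gt K ac (-β) 0) (h : ∀ x ∈ X, Cm y x) : y = 0 := by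
  by_contra h0
  obtain ⟨g, hg, h1, h2, -⟩ := hE (-β) y hy h0
  have h3 := wrep_L.opt_mem (exists_ne_of_opt ho) ho hβ (g' := g⁻¹) (by
    rintro _ ⟨i, rfl, v, hv, hi⟩
    rw [inv_inv, h2 v (h v hv)] at hi
    exact ho.1.2 _ ⟨i, rfl, v, hv, by rwa [inv_one, map_one, one_mulVec]⟩)
  rw [inv_one, one_mul, inv_mem_iff] at h3
  exact h1 (eq_one_of_opp hg (by rwa [neg_neg]))

end Cfsg.Agent.E7P.Br
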